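import Cfsg.Agent.H152.QA.Defs
import Cfsg.Agent.H80.Fpf.Mult
import Cfsg.Agent.Blocks.Deflate
import Cfsg.Agent.Blocks.Basic
import Cfsg.Agent.Characters.Core

/-!
# S4979, layer (A), A-T0 and A-T6 (helper759, task 4860)

* `noSit_of_mult`, `Sit.exists_prime_dvd`;
* `Sit.not_dvd_of_surj`, `noSit_of_chars`.
-/

set_option autoImplicit false

open Cfsg

namespace Cfsg.Agent.H759.QA

open Cfsg.Agent.H80.Fpf Cfsg.Agent.H152.QA
open Cfsg.Agent.Characters.Core (isIrr_comp isIrr_apply_one_ne_zero)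

/-- the centre of a cover of a simple group is the kernel -/
theorem center_eq_ker {L S : Type} [Group L] [Group S] [IsSimpleGroup S] {π : L →* S} (hπ : IsCover π) :
    Subgroup.center L = π.ker := by
  refine le_antisymm ?_ hπ.central
  have hS : Subgroup.center S = ⊥ := by
    rcases (inferInstance : (Subgroup.center S).Normal).eq_bot_or_eq_top with h | h
    · exact h
    · exfalso
      have h1 : commutator L ≤ π.ker := by
        rw [commutator_def, Subgroup.commutator_le]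
        intro a _ b _
        rw [MonoidHom.mem_ker, map_commutatorElement, commutatorElement_eq_one_iff_mul_comm]
        have h2 : π b ∈ Subgroup.center S := by rw [h]; trivial
        exact Subgroup.mem_center_iff.1 h2 (π a)
      rw [hπ.perf] at h1
      obtain ⟨s, hs⟩ := exists_ne (1 : S)
      obtain ⟨g, rfl⟩ := hπ.surj s
      exact hs (MonoidHom.mem_ker.1 (h1 (Subgroup.mem_top g)))
  intro z hz
  rw [MonoidHom.mem_ker]
  have h1 : π z ∈ Subgroup.center S := by
    rw [Subgroup.mem_center_iff]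
    intro s
    obtain ⟨g, rfl⟩ := hπ.surj s
    rw [← map_mul, ← map_mul, Subgroup.mem_center_iff.1 hz g]
  rw [hS] at h1
  exact Subgroup.mem_bot.1 h1

/-- groups with trivial multiplier (more precisely: every perfect central extension is trivial) -/
theorem noSit_of_mult {S : Type} [Group S] [Finite S] [IsSimpleGroup S]
    (h : ∀ (L : Type) [Group L] [Finite L] (π : L →* S), IsCover π → Function.Injective π) : NoSit S := by
  intro p q L V _ _ _ _ _ π N φ hπ hS
  apply hS.Nne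
  rw [eq_bot_iff]
  refine hS.cen.trans ?_
  rw [center_eq_ker hπ, (MonoidHom.ker_eq_bot_iff π).2 (h L π hπ)]

/-- kernels divide `m`; only primes `p` such that some prime `≠ p` divides `m` matter -/
theorem Sit.exists_prime_dvd {p q : ℕ} {L V S : Type} [Group L] [Finite L] [AddCommGroup V] [Finite V]
    [DistribMulAction L V] [Group S] [Finite S] [IsSimpleGroup S] {π : L →* S} {N : Subgroup L} {φ : N →* ℂˣ}
    (h : Sit (V := V) p q N φ) (hπ : IsCover π) {m : ℕ} (hm : MultDvd S m) : ∃ r : ℕ, r.Prime ∧ r ≠ p ∧ r ∣ m := by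
  have h1 : Nat.card N ≠ 1 := fun h1 => h.Nne (Subgroup.card_eq_one.1 h1)
  obtain ⟨r, hr, hrN⟩ := Nat.exists_prime_and_dvd h1
  have h2 : r ∣ Nat.card (Subgroup.center L) := hrN.trans (Subgroup.card_dvd_of_le h.cen)
  refine ⟨r, hr, ?_, ?_⟩
  · rintro rfl
    exact h.pZ h2
  · rw [center_eq_ker hπ] at h2
    exact h2.trans (hm L π hπ)

/-- an irreducible character trivial on the kernel descends -/
theorem descend {X Y : Type*} [Group X] [Group Y] [Finite X] (f : X →* Y)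
    (hf : Function.Surjective f) (ψ : X → ℂ) (hψ : IsIrrCharacter X ψ) (h1 : ∀ k, f k = 1 → ψ k = ψ 1) :
    ∃ χ : Y → ℂ, IsIrrCharacter Y χ ∧ ∀ x, χ (f x) = ψ x := by
  have := Fintype.ofFinite f.ker
  obtain ⟨χ', hχ'⟩ := Cfsg.Agent.Blocks.Deflate.exists_deflation f.ker ψ hψ (by
    rw [Finset.sum_congr rfl fun n _ => show ψ ((n : f.ker) : X) = ψ 1 from h1 n n.2, Finset.sum_const, nsmul_eq_mul]
    refine mul_ne_zero ?_ (isIrr_apply_one_ne_zero hψ)
    exact Nat.cast_ne_zero.2 (Finset.card_ne_zero.2 ⟨1, Finset.mem_univ _⟩))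
  let e := QuotientGroup.quotientKerEquivOfSurjective f hf
  refine ⟨(χ' : X ⧸ f.ker → ℂ) ∘ e.symm.toMonoidHom, isIrr_comp e.symm.toMonoidHom e.symm.surjective χ'.2, fun x => ?_⟩
  rw [hχ']
  have h2 : e.symm (f x) = (x : X ⧸ f.ker) := by
    rw [MulEquiv.symm_apply_eq]
    rfl
  exact congrArg (χ' : X ⧸ f.ker → ℂ) h2

/-- P2 for characters of a group mapping onto `L` -/
theorem Sit.not_dvd_of_surj {p q : ℕ} {L V : Type} [Group L] [Finite L] [AddCommGroup V] [Finite V]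
    [DistribMulAction L V] {N : Subgroup L} {φ : N →* ℂˣ}
    (h : Sit (V := V) p q N φ) {U : Type} [Group U] [Finite U] (θ : U →* L) (hθ : Function.Surjective θ)
    (χ : U → ℂ) (hχ : IsIrrCharacter U χ) (hN : ∀ (u : U) (hu : θ u ∈ N), χ u = χ 1 * φ ⟨θ u, hu⟩) :
    ¬ p ∣ charDegree χ := by
  obtain ⟨χ', hχ', hd⟩ := descend θ hθ χ hχ (fun k hk => by
    rw [hN k (by rw [hk]; exact N.one_mem)]
    have h1 : (⟨θ k, by rw [hk]; exact N.one_mem⟩ : N) = 1 := Subtype.ext hk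
    rw [h1, map_one, Units.val_one, mul_one])
  have h1 : charDegree χ = charDegree χ' := by
    unfold charDegree
    rw [← hd 1, map_one]
  rw [h1]
  refine h.P2 χ' hχ' fun n => ?_
  obtain ⟨u, hu⟩ := hθ (n : L)
  have hn : θ u ∈ N := by rw [hu]; exact n.2
  have h2 := hN u hn
  rw [← hd u, ← hd 1, map_one] at h2
  have h3 : (⟨θ u, hn⟩ : N) = n := Subtype.ext hu
  rw [h3, hu] at h2
  exact h2

open scoped IsMulCommutative in
/-- extension of linear characters of central subgroups -/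
theorem exists_extend {L : Type} [Group L] [Finite L] {N Z : Subgroup L} (hNZ : N ≤ Z) (hZ : Z ≤ Subgroup.center L)
    (φ : N →* ℂˣ) : ∃ lam : Z →* ℂˣ, ∀ n : N, lam ⟨n, hNZ n.2⟩ = φ n := by
  have hcomm : IsMulCommutative Z := ⟨⟨fun x y => Subtype.ext
    (Subgroup.mem_center_iff.1 (hZ y.2) (x : L))⟩⟩
  let e := Subgroup.subgroupOfEquivOfLe hNZ
  obtain ⟨lam, hlam⟩ := MonoidHom.domRestrict_surjective (M := ℂ) (N.subgroupOf Z) (φ.comp e.toMonoidHom)
  refine ⟨lam, fun n => ?_⟩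
  have h1 := DFunLike.congr_fun hlam ⟨⟨n, hNZ n.2⟩, Subgroup.mem_subgroupOf.2 n.2⟩
  exact h1

/-- **P2 criterion**: `υ : U → S` the universal cover; for every odd prime `p` dividing `|S|` and every linear character
`lam ≠ 1` of `ker υ` of order prime to `p` there is an irreducible character of `U` over `lam` of degree divisible by `p`. -/
theorem noSit_of_chars {S : Type} [Group S] [Finite S] [IsSimpleGroup S] {m : ℕ} (hm0 : m ≠ 0) (hm : MultDvd S m)
    {U : Type} [Group U] [Finite U] {υ : U →* S} (hυ : IsCover υ) (hcard : Nat.card υ.ker = m)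
    (hch : ∀ p : ℕ, p.Prime → p ≠ 2 → p ∣ Nat.card S → ∀ lam : υ.ker →* ℂˣ, lam ≠ 1 → ¬ p ∣ orderOf lam →
      ∃ χ : U → ℂ, IsIrrCharacter U χ ∧ (∀ z : υ.ker, χ z = χ 1 * lam z) ∧ p ∣ charDegree χ) : NoSit S := by
  intro p q L V _ _ _ _ _ π N φ hπ h
  obtain ⟨θ, hθ, hθπ⟩ := exists_of_universal hm0 hm hυ hcard hπ
  have hZ : Subgroup.center L = π.ker := center_eq_ker hπ
  have hNπ : N ≤ π.ker := hZ ▸ h.cen
  obtain ⟨lam₀, hlam₀⟩ := exists_extend hNπ hπ.central φ
  have hmem : ∀ z : υ.ker, θ z ∈ π.ker := fun z => by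
    rw [MonoidHom.mem_ker, hθπ]; exact z.2
  let f : υ.ker →* π.ker := (θ.comp υ.ker.subtype).codRestrict π.ker hmem
  let lam : υ.ker →* ℂˣ := lam₀.comp f
  have hpZ : ¬ p ∣ Nat.card π.ker := hZ ▸ h.pZ
  have hpS : p ∣ Nat.card S := by
    have h1 : Nat.card L = Nat.card π.ker * Nat.card S := by
      rw [← Subgroup.card_mul_index π.ker, Subgroup.index_ker, MonoidHom.range_eq_top.2 hπ.surj, Subgroup.card_top]
    rcases h.hp.dvd_mul.1 (h1 ▸ h.pL) with h2 | h2
    · exact absurd h2 hpZ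
    · exact h2
  have hord : ¬ p ∣ orderOf lam := by
    intro h1
    apply hpZ
    refine h1.trans (orderOf_dvd_of_pow_eq_one ?_)
    ext z
    show ((lam₀ (f z)) ^ (Nat.card π.ker) : ℂˣ) = ((1 : ℂˣ) : ℂ)
    rw [← map_pow, pow_card_eq_one', map_one]
  have hne : lam ≠ 1 := by
    intro h1
    apply h.Nne
    rw [eq_bot_iff]
    intro n hn
    obtain ⟨u, hu⟩ := hθ n
    have hu1 : u ∈ υ.ker := by
      rw [MonoidHom.mem_ker, ← hθπ, hu]
      exact hNπ hn
    have h2 := DFunLike.congr_fun h1 ⟨u, hu1⟩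
    have h3 : f ⟨u, hu1⟩ = ⟨n, hNπ hn⟩ := Subtype.ext hu
    have h4 : lam₀ (f ⟨u, hu1⟩) = 1 := h2
    rw [h3, hlam₀ ⟨n, hn⟩] at h4
    have h5 : (⟨n, hn⟩ : N) = 1 := h.inj (by rw [h4, map_one])
    exact Subgroup.mem_bot.2 (congrArg Subtype.val h5)
  obtain ⟨χ, hχ, hχz, hχd⟩ := hch p h.hp h.odd hpS lam hne hord
  refine Sit.not_dvd_of_surj h θ hθ χ hχ (fun u hu => ?_) hχd
  have hu1 : u ∈ υ.ker := by
    rw [MonoidHom.mem_ker, ← hθπ]
    exact hNπ hu
  have h1 := hχz ⟨u, hu1⟩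
  have h2 : lam ⟨u, hu1⟩ = φ ⟨θ u, hu⟩ := by
    rw [← hlam₀ ⟨θ u, hu⟩]
    rfl
  rw [h2] at h1
  exact h1

end Cfsg.Agent.H759.QA
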